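import Cfsg.Agent.EqLemmas

/-!
Counting Sylow subgroups (helper78).

* `card_sylow_eq_relIndex`: n_p(L) = [L : N_L(P)] for P ≤ L
* `card_sylow_of_sylow_le`: a normal subgroup containing a Sylow has the same count
* `card_sylow_quotient_eq`: n_p(G/N) = n_p(G) if N normalises every Sylow
* `card_sylow_eq_quotient_mul`: n_p(G) = n_p(G/K) * n_p(PK)
* `relIndex_eq_of_sup`: [W : L] = [K : L ⊓ K] for W = L ⊔ K, K normal
* `card_sylow_sup_eq`: n_p(PK) = [K : N_K(P)]
-/

set_option autoImplicit false

namespace Cfsg.Agent.SylowCount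

variable {G : Type*} [Group G] [Finite G] {p : ℕ} [hp : Fact p.Prime]

theorem card_sylow_eq_relIndex (P : Sylow p G) (L : Subgroup G) (h : (P : Subgroup G) ≤ L) :
    Nat.card (Sylow p L) = (Subgroup.normalizer ((P : Subgroup G) : Set G)).relIndex L := by
  rw [Sylow.card_eq_index_normalizer (P.subtype h)]
  show (Subgroup.normalizer (((P : Subgroup G).subgroupOf L : Subgroup L) : Set L)).index = _
  rw [← Subgroup.subgroupOf_normalizer_eq h]
  rfl

theorem sylow_le_of_le_normal (P : Sylow p G) (H : Subgroup G) [hH : H.Normal] (h : (P : Subgroup G) ≤ H)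
    (Q : Sylow p G) : (Q : Subgroup G) ≤ H := by
  obtain ⟨g, rfl⟩ := MulAction.exists_smul_eq G P Q
  intro x hx
  rw [Sylow.coe_subgroup_smul, Subgroup.mem_pointwise_smul_iff_inv_smul_mem, ← map_inv,
    MulAut.smul_def, MulAut.conj_apply, inv_inv] at hx
  have := hH.conj_mem _ (h hx) g
  simpa [mul_assoc] using this

theorem card_sylow_of_sylow_le (P : Sylow p G) (H : Subgroup G) [H.Normal]
    (h : (P : Subgroup G) ≤ H) : Nat.card (Sylow p H) = Nat.card (Sylow p G) := by
  refine (Nat.card_eq_of_bijective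
    (fun Q : Sylow p G => Q.subtype (sylow_le_of_le_normal P H h Q))
    ⟨fun Q R hQR => Sylow.subtype_injective hQR, fun S => ?_⟩).symm
  obtain ⟨Q, hQ⟩ := S.exists_comap_subtype_eq
  exact ⟨Q, Sylow.ext hQ⟩

theorem sylow_le_normalizer_eq {P Q : Sylow p G}
    (h : (Q : Subgroup G) ≤ Subgroup.normalizer ((P : Subgroup G) : Set G)) : Q = P := by
  refine (Sylow.ext (Q.3 P.isPGroup' fun x hx => ?_)).symm
  have : x ∈ (Q : Subgroup G) ⊓ (P : Subgroup G) := by
    rw [← Q.isPGroup'.inf_normalizer_sylow]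
    exact ⟨hx, h hx⟩
  exact this.2

theorem card_sylow_quotient_eq (N : Subgroup G) [N.Normal]
    (h : ∀ P : Sylow p G, N ≤ Subgroup.normalizer ((P : Subgroup G) : Set G)) :
    Nat.card (Sylow p (G ⧸ N)) = Nat.card (Sylow p G) := by
  have hs := QuotientGroup.mk'_surjective N
  refine (Nat.card_eq_of_bijective (Sylow.mapSurjective hs)
    ⟨fun P Q hPQ => ?_, Sylow.mapSurjective_surjective hs p⟩).symm
  refine (sylow_le_normalizer_eq (P := P) (Q := Q) fun x hx => ?_).symm
  have h1 : QuotientGroup.mk' N x ∈ (P : Subgroup G).map (QuotientGroup.mk' N) := by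
    rw [← Sylow.coe_mapSurjective (hf := hs), hPQ, Sylow.coe_mapSurjective]
    exact Subgroup.mem_map_of_mem _ hx
  obtain ⟨y, hy, hxy⟩ := h1
  have h2 : y⁻¹ * x ∈ N := QuotientGroup.eq.mp hxy
  have := mul_mem (Subgroup.le_normalizer (H := (P : Subgroup G)) hy) (h P h2)
  simpa using this

theorem card_sylow_eq_quotient_mul (K : Subgroup G) [K.Normal] (P : Sylow p G) :
    Nat.card (Sylow p G) =
      Nat.card (Sylow p (G ⧸ K)) * Nat.card (Sylow p ↥((P : Subgroup G) ⊔ K)) := by
  have hs := QuotientGroup.mk'_surjective K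
  set W := (P : Subgroup G) ⊔ K with hW
  set L := (Subgroup.normalizer (((P.mapSurjective hs : Sylow p (G ⧸ K)) : Subgroup (G ⧸ K)) : Set (G ⧸ K))).comap
    (QuotientGroup.mk' K) with hL
  have hLW : L = Subgroup.normalizer (W : Set G) := by
    rw [hL, Subgroup.comap_normalizer_eq_of_surjective _ hs, Sylow.coe_mapSurjective,
      Subgroup.comap_map_eq, QuotientGroup.ker_mk']
  have hPW : (P : Subgroup G) ≤ W := le_sup_left
  have hWL : W ≤ L := hLW ▸ Subgroup.le_normalizer
  have hPL := hPW.trans hWL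
  have hNL : Subgroup.normalizer ((P : Subgroup G) : Set G) ≤ L := by
    rw [hL, Sylow.coe_mapSurjective, ← Subgroup.map_le_iff_le_comap]
    exact Subgroup.le_normalizer_map _
  have e1 : Nat.card (Sylow p (G ⧸ K)) = L.index := by
    rw [hL, Subgroup.index_comap_of_surjective _ hs]
    exact Sylow.card_eq_index_normalizer _
  have e2 : Nat.card (Sylow p G) = (Subgroup.normalizer ((P : Subgroup G) : Set G)).index :=
    Sylow.card_eq_index_normalizer P
  rw [e1, e2, ← Subgroup.relIndex_mul_index hNL, mul_comm]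
  congr 1
  rw [← card_sylow_eq_relIndex P L hPL]
  haveI : (W.subgroupOf L).Normal := by rw [hLW]; exact Subgroup.normal_in_normalizer
  rw [← card_sylow_of_sylow_le (P.subtype hPL) (W.subgroupOf L)
    (fun x hx => hPW hx)]
  exact Nat.card_congr (Sylow.mapSurjective_surjective
    (f := (Subgroup.subgroupOfEquivOfLe hWL).toMonoidHom) (Subgroup.subgroupOfEquivOfLe hWL).surjective p |>
      fun hsurj => Equiv.ofBijective _ ⟨fun a b hab => Sylow.ext
        (Subgroup.map_injective (Subgroup.subgroupOfEquivOfLe hWL).injective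
          (congrArg (fun S : Sylow p W => (S : Subgroup W)) hab)), hsurj⟩)

omit hp in
theorem relIndex_eq_of_sup (K L : Subgroup G) [K.Normal] :
    L.relIndex (L ⊔ K) = L.relIndex K := by
  have h1 : (L ⊓ K).relIndex L * L.relIndex (L ⊔ K) = (L ⊓ K).relIndex (L ⊔ K) :=
    Subgroup.relIndex_mul_relIndex _ _ _ inf_le_left le_sup_left
  have h2 : (L ⊓ K).relIndex K * K.relIndex (L ⊔ K) = (L ⊓ K).relIndex (L ⊔ K) :=
    Subgroup.relIndex_mul_relIndex _ _ _ inf_le_right le_sup_right
  rw [Subgroup.inf_relIndex_left] at h1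
  rw [Subgroup.inf_relIndex_right, Subgroup.relIndex_sup_right, mul_comm] at h2
  have hne : K.relIndex L ≠ 0 := Subgroup.index_ne_zero_of_finite
  exact Nat.eq_of_mul_eq_mul_left (Nat.pos_of_ne_zero hne) (h1.trans h2.symm)

theorem card_sylow_sup_eq (K : Subgroup G) [K.Normal] (P : Sylow p G) :
    Nat.card (Sylow p ↥((P : Subgroup G) ⊔ K)) =
      (Subgroup.normalizer ((P : Subgroup G) : Set G)).relIndex K := by
  rw [card_sylow_eq_relIndex P _ le_sup_left]
  set W := (P : Subgroup G) ⊔ K
  set L := W ⊓ Subgroup.normalizer ((P : Subgroup G) : Set G)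
  have hW : L ⊔ K = W := le_antisymm (sup_le inf_le_left le_sup_right)
    (sup_le ((le_inf le_sup_left Subgroup.le_normalizer).trans le_sup_left) le_sup_right)
  have h1 := relIndex_eq_of_sup K L
  rw [hW] at h1
  have h0 : L.relIndex W = (Subgroup.normalizer ((P : Subgroup G) : Set G)).relIndex W := by
    show (W ⊓ _).relIndex W = _
    rw [inf_comm, Subgroup.inf_relIndex_right]
  calc _ = L.relIndex W := h0.symm
    _ = L.relIndex K := h1
    _ = _ := by
        rw [← Subgroup.inf_relIndex_right, ← Subgroup.inf_relIndex_right (H := Subgroup.normalizer _)]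
        congr 1
        apply le_antisymm
        · exact inf_le_inf_right _ inf_le_right
        · exact le_inf (le_inf (inf_le_right.trans le_sup_right) inf_le_left) inf_le_right

end Cfsg.Agent.SylowCount
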